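import Mathlib

/-!
# LEMMA RL ("reverse LL", bb OMEGA #24339, helper335), pure form

`U` an elementary abelian 2-group on which `LL` and `Y` act, `B ≤ LL ⊓ Y`, `V₀ ≤ U` invariant under `LL`, `AA` a class of
subgroups closed under conjugation with elements of `LL` and `Y`. A member `A ≤ B` is ACTIVE if it moves `V₀`; then
`ρ A = [U, A]` is a full root group and `U = V₀ C_U(A)`. Inactive members `≤ B` have all their `LL`-conjugates in `B`;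
ALL members `≤ B` have all their `Y`-conjugates in `B`.

* `Sit.main` : `A ≤ B` active, `⟨A ^ LL⟩` transitive on `(ρ A) ^ LL`, `y ∈ Y`: `(ρ A) ^ y = ρ A`, or `A ^ y` is active and
  `(ρ A) ^ y = ρ (A ^ y)`, or `⟨A ^ LL⟩` centralises `(ρ A) ^ y`;
* `Sit.cor` : if moreover `C_{V₀}(K) = 1`, `K ≤ ⟨A ^ LL⟩` for all active `A ≤ B`, and `C_U(B) ≤ V₀ R'`, `R'` centralised by
  `LL` and `Y`, then `Y` permutes the `ρ A`, `A ≤ B` active;
* `Sit.cor_one` : if all `ρ A` are equal to one `r`, then `Y` normalises `r`.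
-/

set_option autoImplicit false

namespace Cfsg.Agent.Omega.OM.RL

open Subgroup
open scoped Pointwise

universe u

variable {G : Type u} [Group G]

/-- `A` moves `V`. -/
def Mv (A V : Subgroup G) : Prop := ∃ a ∈ A, ∃ v ∈ V, a * v ≠ v * a

/-- `⟨A ^ L⟩` -/
def NN (L A : Subgroup G) : Subgroup G := ⨆ l : L, MulAut.conj (l : G) • A

theorem mem_cj {g x : G} {H : Subgroup G} : x ∈ MulAut.conj g • H ↔ g⁻¹ * x * g ∈ H := by
  rw [Subgroup.mem_pointwise_smul_iff_inv_smul_mem, ← map_inv, MulAut.smul_def, MulAut.conj_apply, inv_inv]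

theorem cj_mem {g x : G} {H : Subgroup G} (hx : x ∈ H) : g * x * g⁻¹ ∈ MulAut.conj g • H := by
  rw [mem_cj]
  have e : g⁻¹ * (g * x * g⁻¹) * g = x := by group
  rwa [e]

theorem cj_cj (g h : G) (H : Subgroup G) : MulAut.conj g • MulAut.conj h • H = MulAut.conj (g * h) • H := by
  rw [map_mul, mul_smul]

theorem cj_one (H : Subgroup G) : MulAut.conj (1 : G) • H = H := by rw [map_one, one_smul]

theorem not_Mv {A V : Subgroup G} (h : ¬ Mv A V) : ∀ a ∈ A, ∀ v ∈ V, a * v = v * a := by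
  intro a ha v hv
  by_contra hne
  exact h ⟨a, ha, v, hv, hne⟩

theorem comm_conj {g a v : G} (h : a * v = v * a) : (g * a * g⁻¹) * (g * v * g⁻¹) = (g * v * g⁻¹) * (g * a * g⁻¹) := by
  have h1 : g * (a * v) * g⁻¹ = g * (v * a) * g⁻¹ := by rw [h]
  calc _ = g * (a * v) * g⁻¹ := by group
    _ = _ := by rw [h1]; group

theorem comm_conj_inv {g a v : G} (h : (g⁻¹ * a * g) * (g⁻¹ * v * g) = (g⁻¹ * v * g) * (g⁻¹ * a * g)) :
    a * v = v * a := by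
  have h1 := comm_conj (g := g) h
  have e1 : g * (g⁻¹ * a * g) * g⁻¹ = a := by group
  have e2 : g * (g⁻¹ * v * g) * g⁻¹ = v := by group
  rwa [e1, e2] at h1

theorem fix_of_comm {a v : G} (h : a * v = v * a) : a * v * a⁻¹ = v := by rw [h]; group

theorem comm_of_fix {a v : G} (h : a * v * a⁻¹ = v) : a * v = v * a := by
  calc a * v = a * v * a⁻¹ * a := by group
    _ = v * a := by rw [h]

/-- the commutator computation of LEMMA RL -/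
theorem gam {a b x s v t : G} (hss : s * s = 1) (hsx : s * x = x * s) (hxt : x * t = t * x) (hst : s * t = t * s)
    (h1 : a * x * a⁻¹ = s * x) (h2 : a * s * a⁻¹ = s) (hv : b⁻¹ * x * b = v * x) (hav : a * v * a⁻¹ = v)
    (ht : b * s * b⁻¹ = t * s) (hat : a * t * a⁻¹ = t) :
    (a * b * a⁻¹ * b⁻¹) * x * (a * b * a⁻¹ * b⁻¹)⁻¹ = t * x := by
  have e1 : a⁻¹ * x * a = s * x := by
    have : a * (s * x) * a⁻¹ = x := by
      calc a * (s * x) * a⁻¹ = (a * s * a⁻¹) * (a * x * a⁻¹) := by group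
        _ = s * (s * x) := by rw [h1, h2]
        _ = (s * s) * x := by group
        _ = x := by rw [hss, one_mul]
    calc a⁻¹ * x * a = a⁻¹ * (a * (s * x) * a⁻¹) * a := by rw [this]
      _ = s * x := by group
  have e0 : a⁻¹ * v * a = v := by
    calc a⁻¹ * v * a = a⁻¹ * (a * v * a⁻¹) * a := by rw [hav]
      _ = v := by group
  have e2 : a⁻¹ * (v * x) * a = (v * x) * s := by
    calc a⁻¹ * (v * x) * a = (a⁻¹ * v * a) * (a⁻¹ * x * a) := by group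
      _ = v * (s * x) := by rw [e0, e1]
      _ = (v * x) * s := by rw [hsx]; group
  have e3 : b * ((v * x) * s) * b⁻¹ = x * (t * s) := by
    calc b * ((v * x) * s) * b⁻¹ = b * (v * x) * b⁻¹ * (b * s * b⁻¹) := by group
      _ = b * (b⁻¹ * x * b) * b⁻¹ * (t * s) := by rw [hv, ht]
      _ = x * (t * s) := by group
  have e4 : a * (x * (t * s)) * a⁻¹ = t * x := by
    calc a * (x * (t * s)) * a⁻¹ = (a * x * a⁻¹) * (a * t * a⁻¹) * (a * s * a⁻¹) := by group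
      _ = s * x * t * s := by rw [h1, hat, h2]
      _ = s * (x * t) * s := by group
      _ = s * (t * x) * s := by rw [hxt]
      _ = (s * t) * (x * s) := by group
      _ = (t * s) * (s * x) := by rw [hst, hsx]
      _ = t * (s * s) * x := by group
      _ = t * x := by rw [hss, mul_one]
  calc (a * b * a⁻¹ * b⁻¹) * x * (a * b * a⁻¹ * b⁻¹)⁻¹
      = a * (b * (a⁻¹ * (b⁻¹ * x * b) * a) * b⁻¹) * a⁻¹ := by group
    _ = t * x := by rw [hv, e2, e3, e4]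

/-- The situation of LEMMA RL. -/
structure Sit (U V₀ B LL Y : Subgroup G) (AA : Set (Subgroup G)) (ρ : Subgroup G → Subgroup G) : Prop where
  cm : ∀ x ∈ U, ∀ y ∈ U, x * y = y * x
  sq : ∀ x ∈ U, x * x = 1
  nL : ∀ l ∈ LL, ∀ x ∈ U, l * x * l⁻¹ ∈ U
  nY : ∀ y ∈ Y, ∀ x ∈ U, y * x * y⁻¹ ∈ U
  BL : B ≤ LL
  BY : B ≤ Y
  VU : V₀ ≤ U
  nV : ∀ l ∈ LL, ∀ v ∈ V₀, l * v * l⁻¹ ∈ V₀
  aL : ∀ A ∈ AA, ∀ l ∈ LL, MulAut.conj l • A ∈ AA
  aY : ∀ A ∈ AA, ∀ y ∈ Y, MulAut.conj y • A ∈ AA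
  rV : ∀ A ∈ AA, A ≤ B → Mv A V₀ → ρ A ≤ V₀
  cr : ∀ A ∈ AA, A ≤ B → Mv A V₀ → ∀ a ∈ A, ∀ r ∈ ρ A, a * r = r * a
  one : ∀ A ∈ AA, A ≤ B → Mv A V₀ → ∀ x ∈ U, ∃ v ∈ V₀, ∃ c ∈ U, (∀ a ∈ A, a * c = c * a) ∧ x = v * c
  root : ∀ A ∈ AA, A ≤ B → Mv A V₀ → ∀ a ∈ A, ∀ x ∈ U, a * x * a⁻¹ * x⁻¹ ∈ ρ A
  full : ∀ A ∈ AA, A ≤ B → Mv A V₀ → ∀ x ∈ U, (∃ a ∈ A, a * x ≠ x * a) → ∀ r ∈ ρ A,
    ∃ a ∈ A, a * x * a⁻¹ * x⁻¹ = r
  com : ∀ A ∈ AA, A ≤ B → Mv A V₀ → ∀ d ∈ B, (∀ c ∈ U, (∀ a ∈ A, a * c = c * a) → d * c = c * d) →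
    ∀ v ∈ V₀, d * v * d⁻¹ * v⁻¹ ∈ ρ A
  two : ∀ A ∈ AA, A ≤ B → ¬ Mv A V₀ → ∀ l ∈ LL, MulAut.conj l • A ≤ B
  thr : ∀ A ∈ AA, A ≤ B → ∀ y ∈ Y, MulAut.conj y • A ≤ B

variable {U V₀ B LL Y : Subgroup G} {AA : Set (Subgroup G)} {ρ : Subgroup G → Subgroup G}

theorem NN_le {L A : Subgroup G} (h : A ≤ L) : NN L A ≤ L := by
  refine iSup_le fun l => ?_
  intro x hx
  rw [mem_cj] at hx
  have h1 := L.mul_mem (L.mul_mem l.2 (h hx)) (L.inv_mem l.2)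
  have e : (l : G) * ((l : G)⁻¹ * x * l) * (l : G)⁻¹ = x := by group
  rwa [e] at h1

theorem le_NN {L A : Subgroup G} {l : G} (hl : l ∈ L) : MulAut.conj l • A ≤ NN L A :=
  le_iSup (fun l : L => MulAut.conj (l : G) • A) ⟨l, hl⟩

/-- `[U, ⟨A ^ LL⟩] ≤ V₀` -/
theorem Sit.NV (h : Sit U V₀ B LL Y AA ρ) {A : Subgroup G} (hA : A ∈ AA) (hAB : A ≤ B) (hm : Mv A V₀) :
    ∀ n ∈ NN LL A, ∀ x ∈ U, n * x * n⁻¹ * x⁻¹ ∈ V₀ := by
  intro n hn
  have hAL : A ≤ LL := hAB.trans h.BL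
  -- induction over the join
  have hP : ∀ n ∈ NN LL A, n ∈ LL ∧ ∀ x ∈ U, n * x * n⁻¹ * x⁻¹ ∈ V₀ := by
    intro n hn
    unfold NN at hn
    induction hn using Subgroup.iSup_induction' with
    | hp l a ha =>
      have haL : a ∈ LL := NN_le hAL (le_NN l.2 ha)
      refine ⟨haL, fun x hx => ?_⟩
      rw [mem_cj] at ha
      have hx' : (l : G)⁻¹ * x * ((l : G)⁻¹)⁻¹ ∈ U := h.nL _ (inv_mem l.2) x hx
      rw [inv_inv] at hx'
      have h1 := h.rV A hA hAB hm (h.root A hA hAB hm _ ha _ hx')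
      have h2 := h.nV _ l.2 _ h1
      have e : (l : G) * ((l : G)⁻¹ * a * l * ((l : G)⁻¹ * x * l) * ((l : G)⁻¹ * a * l)⁻¹ * ((l : G)⁻¹ * x * l)⁻¹) *
          (l : G)⁻¹ = a * x * a⁻¹ * x⁻¹ := by group
      rwa [e] at h2
    | h1 =>
      refine ⟨one_mem _, fun x _ => ?_⟩
      have e : (1 : G) * x * (1 : G)⁻¹ * x⁻¹ = 1 := by group
      rw [e]; exact one_mem _
    | hmul a b _ _ iha ihb =>
      refine ⟨mul_mem iha.1 ihb.1, fun x hx => ?_⟩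
      have h1 := h.nV a iha.1 _ (ihb.2 x hx)
      have h2 := mul_mem h1 (iha.2 x hx)
      have e : a * (b * x * b⁻¹ * x⁻¹) * a⁻¹ * (a * x * a⁻¹ * x⁻¹) = a * b * x * (a * b)⁻¹ * x⁻¹ := by group
      rwa [e] at h2
  exact (hP n hn).2

/-- `ρ` commutes with conjugation as long as both groups are active. -/
theorem Sit.rho_conj [Finite G] (h : Sit U V₀ B LL Y AA ρ) {A : Subgroup G} (hA : A ∈ AA) (hAB : A ≤ B) (hm : Mv A V₀)
    {y : G} (hy : y ∈ Y) (hm' : Mv (MulAut.conj y • A) V₀) :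
    MulAut.conj y • ρ A = ρ (MulAut.conj y • A) := by
  have hA' := h.aY A hA y hy
  have hB' := h.thr A hA hAB y hy
  obtain ⟨a, ha, v, hv, hne⟩ := id hm
  apply le_antisymm
  · intro r hr
    rw [mem_cj] at hr
    obtain ⟨b, hb, hbr⟩ := h.full A hA hAB hm v (h.VU hv) ⟨a, ha, hne⟩ _ hr
    have h1 := h.root _ hA' hB' hm' _ (cj_mem (g := y) hb) _ (h.nY y hy v (h.VU hv))
    have e : y * b * y⁻¹ * (y * v * y⁻¹) * (y * b * y⁻¹)⁻¹ * (y * v * y⁻¹)⁻¹ = y * (b * v * b⁻¹ * v⁻¹) * y⁻¹ := by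
      group
    rw [e, hbr] at h1
    have e2 : y * (y⁻¹ * r * y) * y⁻¹ = r := by group
    rwa [e2] at h1
  · intro r hr
    obtain ⟨a', ha', v', hv', hne'⟩ := id hm'
    obtain ⟨b, hb, hbr⟩ := h.full _ hA' hB' hm' v' (h.VU hv') ⟨a', ha', hne'⟩ _ hr
    rw [mem_cj] at hb ⊢
    have hv2 : y⁻¹ * v' * (y⁻¹)⁻¹ ∈ U := h.nY _ (inv_mem hy) v' (h.VU hv')
    rw [inv_inv] at hv2
    have h1 := h.root A hA hAB hm _ hb _ hv2
    have e : y⁻¹ * b * y * (y⁻¹ * v' * y) * (y⁻¹ * b * y)⁻¹ * (y⁻¹ * v' * y)⁻¹ = y⁻¹ * (b * v' * b⁻¹ * v'⁻¹) * y := by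
      group
    rwa [e, hbr] at h1

/-- **LEMMA RL.** -/
theorem Sit.main [Finite G] (h : Sit U V₀ B LL Y AA ρ) {A : Subgroup G} (hA : A ∈ AA) (hAB : A ≤ B) (hm : Mv A V₀)
    (htr : ∀ l ∈ LL, ∃ g ∈ NN LL A, MulAut.conj g • MulAut.conj l • ρ A = ρ A) {y : G} (hy : y ∈ Y) :
    MulAut.conj y • ρ A = ρ A ∨ (Mv (MulAut.conj y • A) V₀ ∧ MulAut.conj y • ρ A = ρ (MulAut.conj y • A)) ∨
      ∀ n ∈ NN LL A, ∀ s ∈ MulAut.conj y • ρ A, n * s = s * n := by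
  by_cases hact : Mv (MulAut.conj y • A) V₀
  · exact Or.inr (Or.inl ⟨hact, h.rho_conj hA hAB hm hy hact⟩)
  by_cases hfix : ∀ n ∈ NN LL A, ∀ s ∈ MulAut.conj y • ρ A, n * s = s * n
  · exact Or.inr (Or.inr hfix)
  left
  have hA' := h.aY A hA y hy
  have hB' := h.thr A hA hAB y hy
  have hpas := not_Mv hact
  -- a conjugate of `A` moving `s`
  have hex : ∃ l ∈ LL, ∃ s ∈ MulAut.conj y • ρ A, ∃ b₀ ∈ MulAut.conj l • A, b₀ * s ≠ s * b₀ := by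
    by_contra hcon
    push Not at hcon
    apply hfix
    have : NN LL A ≤ centralizer ((MulAut.conj y • ρ A : Subgroup G) : Set G) := by
      refine iSup_le fun l => fun b hb => ?_
      rw [mem_centralizer_iff]
      intro s hs
      exact (hcon l l.2 s hs b hb).symm
    intro n hn s hs
    exact ((mem_centralizer_iff.1 (this hn)) s hs).symm
  obtain ⟨p, hp, s, hs, b₀, hb₀, hne⟩ := hex
  have hρU : ρ A ≤ U := (h.rV A hA hAB hm).trans h.VU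
  have hsU : s ∈ U := by
    rw [mem_cj] at hs
    have := h.nY y hy _ (hρU hs)
    have e : y * (y⁻¹ * s * y) * y⁻¹ = s := by group
    rwa [e] at this
  -- `x` moved by `A_s`
  obtain ⟨a₁, ha₁, v₁, hv₁, hne₁⟩ := id hm
  obtain ⟨x, hx, hxne, hxU⟩ : ∃ x, x = y * v₁ * y⁻¹ ∧ (∃ a ∈ MulAut.conj y • A, a * x ≠ x * a) ∧ x ∈ U := by
    refine ⟨_, rfl, ⟨y * a₁ * y⁻¹, cj_mem ha₁, fun hc => hne₁ ?_⟩, h.nY y hy v₁ (h.VU hv₁)⟩
    have h1 := comm_conj (g := y⁻¹) hc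
    have e1 : y⁻¹ * (y * a₁ * y⁻¹) * y⁻¹⁻¹ = a₁ := by group
    have e2 : y⁻¹ * (y * v₁ * y⁻¹) * y⁻¹⁻¹ = v₁ := by group
    rwa [e1, e2] at h1
  -- `α ∈ A_s` with `[α, x] = s`
  obtain ⟨α, hα, hαx⟩ : ∃ α ∈ MulAut.conj y • A, α * x * α⁻¹ = s * x := by
    rw [mem_cj] at hs
    obtain ⟨a, ha, har⟩ := h.full A hA hAB hm v₁ (h.VU hv₁) ⟨a₁, ha₁, hne₁⟩ _ hs
    refine ⟨y * a * y⁻¹, cj_mem ha, ?_⟩
    have e : y * a * y⁻¹ * x * (y * a * y⁻¹)⁻¹ = y * (a * v₁ * a⁻¹ * v₁⁻¹) * y⁻¹ * (y * v₁ * y⁻¹) := by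
      rw [hx]; group
    rw [e, har, ← hx]
    group
  have hαs : α * s * α⁻¹ = s := by
    rw [mem_cj] at hs hα
    have h1 := fix_of_comm (comm_conj_inv (g := y) (h.cr A hA hAB hm _ hα _ hs))
    exact h1
  have hαV : ∀ v ∈ V₀, α * v * α⁻¹ = v := fun v hv => fix_of_comm (hpas α hα v hv)
  -- commutators with `p A`
  have hNV := h.NV hA hAB hm
  have hbt : ∀ b ∈ MulAut.conj p • A, ∀ t, b * s * b⁻¹ = t * s → (α * b * α⁻¹ * b⁻¹) * x * (α * b * α⁻¹ * b⁻¹)⁻¹ = t * x := by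
    intro b hb t ht
    have hbN := le_NN (A := A) hp hb
    have ht' : t = b * s * b⁻¹ * s⁻¹ := by rw [ht]; group
    have htV : t ∈ V₀ := by rw [ht']; exact hNV b hbN s hsU
    have hv : b⁻¹ * x * b = (b⁻¹ * x * b⁻¹⁻¹ * x⁻¹) * x := by group
    have hvV := hNV b⁻¹ (inv_mem hbN) x hxU
    exact gam (h.sq s hsU) (h.cm s hsU x hxU) (h.cm x hxU t (h.VU htV)) (h.cm s hsU t (h.VU htV)) hαx hαs hv
      (hαV _ hvV) ht (hαV _ htV)
  -- `N` normalises `C_U(A_s)`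
  have hnorm : ∀ n ∈ NN LL A, ∀ c ∈ U, (∀ a ∈ MulAut.conj y • A, a * c = c * a) →
      n * c * n⁻¹ ∈ U ∧ (∀ a ∈ MulAut.conj y • A, a * (n * c * n⁻¹) = (n * c * n⁻¹) * a) := by
    intro n hn c hc hca
    have hnL := NN_le (hAB.trans h.BL) hn
    refine ⟨h.nL n hnL c hc, fun a ha => ?_⟩
    have h1 := hpas a ha _ (hNV n hn c hc)
    have h2 := hca a ha
    have e : n * c * n⁻¹ = (n * c * n⁻¹ * c⁻¹) * c := by group
    rw [e]
    calc a * (n * c * n⁻¹ * c⁻¹ * c) = a * (n * c * n⁻¹ * c⁻¹) * c := by group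
      _ = (n * c * n⁻¹ * c⁻¹) * (a * c) := by rw [h1]; group
      _ = (n * c * n⁻¹ * c⁻¹ * c) * a := by rw [h2]; group
  -- `g ∈ N` with `g p ρ = ρ`
  obtain ⟨g, hg, hgp⟩ := htr p hp
  have hgL := NN_le (hAB.trans h.BL) hg
  -- the elements `δ`
  have hδ : ∀ b ∈ MulAut.conj p • A, y⁻¹ * g * (α * b * α⁻¹ * b⁻¹) * g⁻¹ * y ∈ B ∧
      (∀ c ∈ U, (∀ a ∈ A, a * c = c * a) → (y⁻¹ * g * (α * b * α⁻¹ * b⁻¹) * g⁻¹ * y) * c =
        c * (y⁻¹ * g * (α * b * α⁻¹ * b⁻¹) * g⁻¹ * y)) := by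
    intro b hb
    have hbN := le_NN (A := A) hp hb
    have hbL := NN_le (hAB.trans h.BL) hbN
    constructor
    · -- membership in `B`
      have h1 : ∀ m ∈ LL, ∀ a ∈ MulAut.conj y • A, y⁻¹ * (m * a * m⁻¹) * y ∈ B := by
        intro m hm1 a ha
        have h2 := h.two _ hA' hB' hact m hm1
        have h3 := h.aL _ hA' m hm1
        have h4 := h.thr _ h3 h2 y⁻¹ (inv_mem hy)
        have h5 := cj_mem (g := y⁻¹) (cj_mem (g := m) ha)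
        rw [inv_inv] at h5
        exact h4 h5
      have h2 := h1 g hgL α hα
      have h3 := h1 (g * b) (mul_mem hgL hbL) α⁻¹ (inv_mem hα)
      have h4 := mul_mem h2 h3
      have e : y⁻¹ * (g * α * g⁻¹) * y * (y⁻¹ * (g * b * α⁻¹ * (g * b)⁻¹) * y) =
          y⁻¹ * g * (α * b * α⁻¹ * b⁻¹) * g⁻¹ * y := by group
      rwa [e] at h4
    · intro c hc hca
      -- `g⁻¹ y c` lies in `C_U(A_s)`
      have h1 : y * c * y⁻¹ ∈ U := h.nY y hy c hc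
      have h2 : ∀ a ∈ MulAut.conj y • A, a * (y * c * y⁻¹) = (y * c * y⁻¹) * a := by
        intro a ha
        rw [mem_cj] at ha
        apply comm_conj_inv (g := y)
        have e : y⁻¹ * (y * c * y⁻¹) * y = c := by group
        rw [e]
        exact hca _ ha
      obtain ⟨h3, h4⟩ := hnorm g⁻¹ (inv_mem hg) _ h1 h2
      obtain ⟨h5, h6⟩ := hnorm b⁻¹ (inv_mem hbN) _ h3 h4
      set c' := g⁻¹ * (y * c * y⁻¹) * g⁻¹⁻¹ with hc'
      have e7 : α * c' = c' * α := h4 α hα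
      have e8 : b * α⁻¹ * b⁻¹ * c' = c' * (b * α⁻¹ * b⁻¹) := by
        have := h6 α⁻¹ (inv_mem hα)
        rw [inv_inv] at this
        have h9 := comm_conj (g := b) this
        have e1 : b * (b⁻¹ * c' * b) * b⁻¹ = c' := by group
        rwa [e1] at h9
      have e9 : (α * b * α⁻¹ * b⁻¹) * c' = c' * (α * b * α⁻¹ * b⁻¹) := by
        calc (α * b * α⁻¹ * b⁻¹) * c' = α * (b * α⁻¹ * b⁻¹ * c') := by group
          _ = (α * c') * (b * α⁻¹ * b⁻¹) := by rw [e8]; group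
          _ = c' * (α * b * α⁻¹ * b⁻¹) := by rw [e7]; group
      have e10 := comm_conj (g := y⁻¹ * g) e9
      have e11 : y⁻¹ * g * c' * (y⁻¹ * g)⁻¹ = c := by rw [hc']; group
      rw [e11] at e10
      have e12 : y⁻¹ * g * (α * b * α⁻¹ * b⁻¹) * (y⁻¹ * g)⁻¹ = y⁻¹ * g * (α * b * α⁻¹ * b⁻¹) * g⁻¹ * y := by group
      rwa [e12] at e10
  -- the vector `x₀`
  set x₀ := y⁻¹ * (g * x * g⁻¹) * y with hx₀
  have hx₀U : x₀ ∈ U := by
    have h1 := h.nY y⁻¹ (inv_mem hy) _ (h.nL g hgL x hxU)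
    rwa [inv_inv] at h1
  obtain ⟨v, hv, c, hc, hca, hvc⟩ := h.one A hA hAB hm x₀ hx₀U
  -- `δ` moves `x₀` by an element of `ρ A`
  have hδρ : ∀ b ∈ MulAut.conj p • A, y⁻¹ * (g * (b * s * b⁻¹ * s⁻¹) * g⁻¹) * y ∈ ρ A := by
    intro b hb
    obtain ⟨hd1, hd2⟩ := hδ b hb
    set d := y⁻¹ * g * (α * b * α⁻¹ * b⁻¹) * g⁻¹ * y with hd
    have h1 := h.com A hA hAB hm d hd1 hd2 v hv
    have h2 := hd2 c hc hca
    have h3 : d * x₀ * d⁻¹ * x₀⁻¹ = d * v * d⁻¹ * v⁻¹ := by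
      rw [hvc]
      calc d * (v * c) * d⁻¹ * (v * c)⁻¹ = d * v * d⁻¹ * (d * c * d⁻¹) * c⁻¹ * v⁻¹ := by group
        _ = d * v * d⁻¹ * v⁻¹ := by rw [fix_of_comm h2]; group
    have h4 := hbt b hb (b * s * b⁻¹ * s⁻¹) (by group)
    have h5 : d * x₀ * d⁻¹ * x₀⁻¹ = y⁻¹ * (g * (b * s * b⁻¹ * s⁻¹) * g⁻¹) * y := by
      rw [hd, hx₀]
      calc y⁻¹ * g * (α * b * α⁻¹ * b⁻¹) * g⁻¹ * y * (y⁻¹ * (g * x * g⁻¹) * y) *
            (y⁻¹ * g * (α * b * α⁻¹ * b⁻¹) * g⁻¹ * y)⁻¹ * (y⁻¹ * (g * x * g⁻¹) * y)⁻¹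
          = y⁻¹ * g * ((α * b * α⁻¹ * b⁻¹) * x * (α * b * α⁻¹ * b⁻¹)⁻¹) * x⁻¹ * g⁻¹ * y := by group
        _ = _ := by rw [h4]; group
    rw [← h5, h3]
    exact h1
  -- `y⁻¹ ρ ≤ ρ`
  have hle : MulAut.conj y⁻¹ • ρ A ≤ ρ A := by
    intro r hr
    rw [mem_cj, inv_inv] at hr
    -- `y r y⁻¹ ∈ ρ = g p ρ`
    rw [← hgp, mem_cj, mem_cj] at hr
    -- a commutator `[b', p⁻¹ s p]`
    have hs' : p⁻¹ * s * p ∈ U := by
      have := h.nL p⁻¹ (inv_mem hp) s hsU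
      rwa [inv_inv] at this
    have hmv : ∃ a ∈ A, a * (p⁻¹ * s * p) ≠ (p⁻¹ * s * p) * a := by
      rw [mem_cj] at hb₀
      refine ⟨_, hb₀, fun hcon => hne ?_⟩
      exact comm_conj_inv (g := p) hcon
    obtain ⟨b', hb', hbr⟩ := h.full A hA hAB hm _ hs' hmv _ hr
    have h1 := hδρ (p * b' * p⁻¹) (cj_mem hb')
    have e : y⁻¹ * (g * (p * b' * p⁻¹ * s * (p * b' * p⁻¹)⁻¹ * s⁻¹) * g⁻¹) * y =
        y⁻¹ * (g * (p * (b' * (p⁻¹ * s * p) * b'⁻¹ * (p⁻¹ * s * p)⁻¹) * p⁻¹) * g⁻¹) * y := by group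
    rw [e, hbr] at h1
    have e2 : y⁻¹ * (g * (p * (p⁻¹ * (g⁻¹ * (y * r * y⁻¹) * g) * p) * p⁻¹) * g⁻¹) * y = r := by group
    rwa [e2] at h1
  have hfin : MulAut.conj y⁻¹ • ρ A = ρ A := by
    apply Subgroup.eq_of_le_of_card_ge hle
    exact (Nat.card_congr (Subgroup.equivSMul (MulAut.conj y⁻¹) (ρ A)).toEquiv).le
  calc MulAut.conj y • ρ A = MulAut.conj y • MulAut.conj y⁻¹ • ρ A := by rw [hfin]
    _ = ρ A := by rw [cj_cj, mul_inv_cancel, cj_one]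

/-! ### The corollary -/

/-- A 2-group acting on a nontrivial elementary abelian 2-group has a nontrivial fixed point. -/
theorem exists_fix [Finite G] {P M : Subgroup G} (hP : IsPGroup 2 P) (hM : ∀ x ∈ M, x * x = 1) (hM1 : M ≠ ⊥)
    (hn : ∀ x ∈ P, ∀ v ∈ M, x * v * x⁻¹ ∈ M) : ∃ v ∈ M, v ≠ 1 ∧ ∀ x ∈ P, x * v = v * x := by
  have : Fact (Nat.Prime 2) := ⟨Nat.prime_two⟩
  let act : MulAction P M :=
    { smul := fun x v => ⟨(x : G) * v * (x : G)⁻¹, hn x x.2 v v.2⟩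
      one_smul := fun v => Subtype.ext (by show (1 : G) * v * (1 : G)⁻¹ = v; group)
      mul_smul := fun x y v => Subtype.ext (by
        show ((x : G) * y) * v * ((x : G) * y)⁻¹ = x * (y * v * (y : G)⁻¹) * (x : G)⁻¹; group) }
  have hMp : IsPGroup 2 M := fun x => ⟨1, by
    rw [pow_one]; exact Subtype.ext (by rw [Subgroup.coe_pow, pow_two]; exact hM x x.2)⟩
  have h2 : 2 ∣ Nat.card M := by
    obtain ⟨n, hn⟩ := IsPGroup.iff_card.1 hMp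
    rcases Nat.eq_zero_or_pos n with h0 | h0
    · rw [h0, pow_zero] at hn
      exact absurd (Subgroup.card_eq_one.1 hn) hM1
    · rw [hn]; exact dvd_pow_self 2 h0.ne'
  obtain ⟨v, hv, hv1⟩ := hP.exists_fixed_point_of_prime_dvd_card_of_fixed_point M h2 (a := (1 : M))
    (fun x => Subtype.ext (by show (x : G) * 1 * (x : G)⁻¹ = 1; group))
  refine ⟨v, v.2, fun h0 => hv1 (Subtype.ext h0.symm), fun x hx => ?_⟩
  have h3 : x * (v : G) * x⁻¹ = v := congrArg Subtype.val (hv ⟨x, hx⟩)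
  exact comm_of_fix h3

theorem mem_sup_comm {A B : Subgroup G} (h : ∀ a ∈ A, ∀ b ∈ B, a * b = b * a) {x : G} (hx : x ∈ A ⊔ B) :
    ∃ a ∈ A, ∃ b ∈ B, x = a * b := by
  have hle : A ≤ normalizer (B : Set G) := by
    refine fun a ha => (Subgroup.centralizer_le_normalizer _) ?_
    rw [mem_centralizer_iff]
    exact fun b hb => (h a ha b hb).symm
  have h1 : x ∈ (A : Set G) * (B : Set G) := by
    rw [← Subgroup.coe_mul_of_left_le_normalizer_right A B hle]; exact hx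
  obtain ⟨a, ha, b, hb, rfl⟩ := Set.mem_mul.1 h1
  exact ⟨a, ha, b, hb, rfl⟩

/-- Blocks `R y` of a finite set `Σ` of subgroups of an abelian group; each member of `Σ` lies in a block; the block
meets the join of its complement trivially. Then the intersection of the complements is trivial. -/
theorem eq_one_of_mem [Finite G] {U : Subgroup G} (hc : ∀ x ∈ U, ∀ y ∈ U, x * y = y * x) {ι : Type u}
    {Sg : Set (Subgroup G)} (hU : ∀ σ ∈ Sg, σ ≤ U) (R : ι → Set (Subgroup G)) (hR : ∀ i, R i ⊆ Sg)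
    (hcov : ∀ σ ∈ Sg, ∃ i, σ ∈ R i) (hd : ∀ i, (sSup (R i) : Subgroup G) ⊓ sSup (Sg \ R i) = ⊥) {s : G}
    (hs : ∀ i, s ∈ (sSup (Sg \ R i) : Subgroup G)) (hs0 : s ∈ (sSup Sg : Subgroup G)) : s = 1 := by
  classical
  have hfin : Sg.Finite := Set.toFinite _
  -- a minimal subset `F ⊆ Sg` with `s ∈ ⟨F⟩`
  have key : ∀ n : ℕ, ∀ F : Set (Subgroup G), F ⊆ Sg → F.ncard = n → s ∈ (sSup F : Subgroup G) → s = 1 := by
    intro n
    induction n using Nat.strong_induction_on with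
    | _ n ih =>
      intro F hF hn hsF
      rcases Set.eq_empty_or_nonempty F with h0 | ⟨σ, hσ⟩
      · rw [h0, sSup_empty, mem_bot] at hsF
        exact hsF
      obtain ⟨i, hi⟩ := hcov σ (hF hσ)
      have hsplit : (sSup F : Subgroup G) = sSup (F ∩ R i) ⊔ sSup (F \ R i) := by
        rw [← sSup_union, Set.inter_union_sdiff]
      have h1 : (sSup (F ∩ R i) : Subgroup G) ≤ sSup (R i) := sSup_le_sSup Set.inter_subset_right
      have h2 : (sSup (F \ R i) : Subgroup G) ≤ sSup (Sg \ R i) := sSup_le_sSup (Set.sdiff_subset_sdiff_left hF)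
      have h3 : (sSup (F ∩ R i) : Subgroup G) ≤ U := sSup_le fun τ hτ => hU τ (hF hτ.1)
      have h4 : (sSup (F \ R i) : Subgroup G) ≤ U := sSup_le fun τ hτ => hU τ (hF hτ.1)
      rw [hsplit] at hsF
      obtain ⟨t, ht, u, hu, htu⟩ := mem_sup_comm (fun a ha b hb => hc a (h3 ha) b (h4 hb)) hsF
      have h5 : t ∈ (sSup (Sg \ R i) : Subgroup G) := by
        have : t = s * u⁻¹ := by rw [htu]; group
        rw [this]
        exact mul_mem (hs i) (inv_mem (h2 hu))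
      have h6 : t = 1 := by
        have : t ∈ (sSup (R i) : Subgroup G) ⊓ sSup (Sg \ R i) := mem_inf.2 ⟨h1 ht, h5⟩
        rwa [hd i, mem_bot] at this
      rw [h6, one_mul] at htu
      rw [← htu] at hu
      refine ih (F \ R i).ncard ?_ (F \ R i) (Set.sdiff_subset.trans hF) rfl hu
      rw [← hn]
      exact Set.ncard_lt_ncard ⟨Set.sdiff_subset, fun hle => (hle hσ).2 hi⟩ (Set.toFinite _)
  exact key _ Sg subset_rfl rfl hs0

theorem Sit.rho_ne (h : Sit U V₀ B LL Y AA ρ) {A : Subgroup G} (hA : A ∈ AA) (hAB : A ≤ B) (hm : Mv A V₀) :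
    ρ A ≠ ⊥ := by
  intro hb
  obtain ⟨a, ha, v, hv, hne⟩ := id hm
  have h1 := h.root A hA hAB hm a ha v (h.VU hv)
  rw [hb, mem_bot] at h1
  apply hne
  calc a * v = (a * v * a⁻¹ * v⁻¹) * (v * a) := by group
    _ = v * a := by rw [h1, one_mul]

theorem Sit.act_B (h : Sit U V₀ B LL Y AA ρ) {A : Subgroup G} (hA : A ∈ AA) (hAB : A ≤ B) (hm : Mv A V₀) {b : G}
    (hb : b ∈ B) : MulAut.conj b • A ∈ AA ∧ MulAut.conj b • A ≤ B ∧ Mv (MulAut.conj b • A) V₀ := by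
  refine ⟨h.aY A hA b (h.BY hb), ?_, ?_⟩
  · intro x hx
    rw [mem_cj] at hx
    have h1 := mul_mem (mul_mem hb (hAB hx)) (inv_mem hb)
    have e : b * (b⁻¹ * x * b) * b⁻¹ = x := by group
    rwa [e] at h1
  · obtain ⟨a, ha, v, hv, hne⟩ := id hm
    refine ⟨b * a * b⁻¹, cj_mem ha, b * v * b⁻¹, h.nV b (h.BL hb) v hv, fun hc => hne ?_⟩
    have h1 := comm_conj (g := b⁻¹) hc
    have e1 : b⁻¹ * (b * a * b⁻¹) * b⁻¹⁻¹ = a := by group
    have e2 : b⁻¹ * (b * v * b⁻¹) * b⁻¹⁻¹ = v := by group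
    rwa [e1, e2] at h1

/-- **COROLLARY of LEMMA RL**: `Y` permutes the root groups `ρ A`, `A ≤ B` active. -/
theorem Sit.cor [Finite G] (h : Sit U V₀ B LL Y AA ρ) (hB : IsPGroup 2 B) {K R' : Subgroup G}
    (htr : ∀ A ∈ AA, A ≤ B → Mv A V₀ → ∀ l ∈ LL, ∃ g ∈ NN LL A, MulAut.conj g • MulAut.conj l • ρ A = ρ A)
    (hK : ∀ A ∈ AA, A ≤ B → Mv A V₀ → K ≤ NN LL A)
    (hCV : ∀ v ∈ V₀, (∀ n ∈ K, n * v = v * n) → v = 1)
    (hfix : ∀ x ∈ U, (∀ b ∈ B, b * x = x * b) → ∃ v ∈ V₀, ∃ r ∈ R', x = v * r)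
    (hRL : ∀ r ∈ R', ∀ l ∈ LL, l * r = r * l) (hRY : ∀ r ∈ R', ∀ y ∈ Y, y * r = r * y)
    {A : Subgroup G} (hA : A ∈ AA) (hAB : A ≤ B) (hm : Mv A V₀) {y : G} (hy : y ∈ Y) :
    ∃ A' ∈ AA, A' ≤ B ∧ Mv A' V₀ ∧ MulAut.conj y • ρ A = ρ A' := by
  classical
  have hKL : K ≤ LL := (hK A hA hAB hm).trans (NN_le (hAB.trans h.BL))
  let Sg : Set (Subgroup G) := {σ | ∃ y ∈ Y, ∃ A ∈ AA, A ≤ B ∧ Mv A V₀ ∧ σ = MulAut.conj y • ρ A}
  let R : Y → Set (Subgroup G) := fun y => {σ | ∃ A ∈ AA, A ≤ B ∧ Mv A V₀ ∧ σ = MulAut.conj (y : G) • ρ A}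
  let e : Y := 1
  have hRe : ∀ σ, σ ∈ R e ↔ ∃ A ∈ AA, A ≤ B ∧ Mv A V₀ ∧ σ = ρ A := by
    intro σ
    constructor
    · rintro ⟨A, h1, h2, h3, h4⟩
      exact ⟨A, h1, h2, h3, by rw [h4]; exact cj_one _⟩
    · rintro ⟨A, h1, h2, h3, h4⟩
      exact ⟨A, h1, h2, h3, by rw [h4]; exact (cj_one _).symm⟩
  have hRS : ∀ i, R i ⊆ Sg := by
    rintro i σ ⟨A, h1, h2, h3, h4⟩
    exact ⟨i, i.2, A, h1, h2, h3, h4⟩
  have hcov : ∀ σ ∈ Sg, ∃ i, σ ∈ R i := by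
    rintro σ ⟨y, hy, A, h1, h2, h3, h4⟩
    exact ⟨⟨y, hy⟩, A, h1, h2, h3, h4⟩
  have hSU : ∀ σ ∈ Sg, σ ≤ U := by
    rintro σ ⟨y, hy, A, h1, h2, h3, h4⟩ x hx
    rw [h4, mem_cj] at hx
    have h5 := h.nY y hy _ (h.VU (h.rV A h1 h2 h3 hx))
    have e : y * (y⁻¹ * x * y) * y⁻¹ = x := by group
    rwa [e] at h5
  -- `Y` permutes `Sg`, and maps `R 1` to `R y`
  have hYS : ∀ z ∈ Y, ∀ σ ∈ Sg, MulAut.conj z • σ ∈ Sg := by
    rintro z hz σ ⟨y, hy, A, h1, h2, h3, h4⟩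
    exact ⟨z * y, mul_mem hz hy, A, h1, h2, h3, by rw [h4, cj_cj]⟩
  have hYR : ∀ (z : Y) (i : Y) (σ : Subgroup G), σ ∈ R i → MulAut.conj (z : G) • σ ∈ R (z * i) := by
    rintro z i σ ⟨A, h1, h2, h3, h4⟩
    exact ⟨A, h1, h2, h3, by rw [h4, cj_cj]; rfl⟩
  have hcc : ∀ (z : Y) (σ : Subgroup G), MulAut.conj (z : G) • MulAut.conj ((z : G)⁻¹) • σ = σ := by
    intro z σ
    rw [cj_cj, mul_inv_cancel, cj_one]
  have hcc' : ∀ (z : Y) (σ : Subgroup G), MulAut.conj ((z : G)⁻¹) • MulAut.conj (z : G) • σ = σ := by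
    intro z σ
    rw [cj_cj, inv_mul_cancel, cj_one]
  -- the dichotomy
  have hdich : ∀ σ ∈ Sg, σ ∈ R e ∨ σ ≤ centralizer (K : Set G) := by
    rintro σ ⟨y, hy, A, h1, h2, h3, h4⟩
    rcases h.main h1 h2 h3 (htr A h1 h2 h3) hy with h5 | ⟨h5, h6⟩ | h5
    · left
      rw [hRe]
      exact ⟨A, h1, h2, h3, by rw [h4, h5]⟩
    · left
      rw [hRe]
      exact ⟨_, h.aY A h1 y hy, h.thr A h1 h2 y hy, h5, by rw [h4, h6]⟩
    · right
      intro s hs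
      rw [h4] at hs
      rw [mem_centralizer_iff]
      intro n hn
      exact h5 n (hK A h1 h2 h3 hn) s hs
  have hMC : (sSup (Sg \ R e) : Subgroup G) ≤ centralizer (K : Set G) :=
    sSup_le fun σ hσ => (hdich σ hσ.1).resolve_left hσ.2
  have hMU : (sSup (Sg \ R e) : Subgroup G) ≤ U := sSup_le fun σ hσ => hSU σ hσ.1
  have hRV : (sSup (R e) : Subgroup G) ≤ V₀ := by
    refine sSup_le fun σ hσ => ?_
    obtain ⟨A, h1, h2, h3, h4⟩ := (hRe σ).1 hσ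
    rw [h4]
    exact h.rV A h1 h2 h3
  have hd1 : (sSup (R e) : Subgroup G) ⊓ sSup (Sg \ R e) = ⊥ := by
    rw [eq_bot_iff]
    rintro x hx
    obtain ⟨hx1, hx2⟩ := mem_inf.1 hx
    rw [mem_bot]
    exact hCV x (hRV hx1) fun n hn => (mem_centralizer_iff.1 (hMC hx2)) n hn
  have hconj1 : ∀ z : Y, (sSup (R z) : Subgroup G) ≤ MulAut.conj (z : G) • sSup (R e) := by
    intro z
    refine sSup_le fun σ hσ => ?_
    have h1 := hYR z⁻¹ z σ hσ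
    rw [inv_mul_cancel] at h1
    have h2 : MulAut.conj ((z : G)⁻¹) • σ ≤ sSup (R e) := le_sSup h1
    have h3 : MulAut.conj (z : G) • MulAut.conj ((z : G)⁻¹) • σ ≤ MulAut.conj (z : G) • sSup (R e) :=
      Subgroup.pointwise_smul_le_pointwise_smul_iff.2 h2
    rwa [hcc] at h3
  have hconj2 : ∀ z : Y, (sSup (Sg \ R z) : Subgroup G) ≤ MulAut.conj (z : G) • sSup (Sg \ R e) := by
    intro z
    refine sSup_le fun σ hσ => ?_
    have h1 : MulAut.conj ((z : G)⁻¹) • σ ∈ Sg \ R e := by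
      refine ⟨hYS _ (inv_mem z.2) σ hσ.1, fun hc => hσ.2 ?_⟩
      have h2 := hYR z e _ hc
      rw [hcc] at h2
      have e1 : z * e = z := mul_one z
      rwa [e1] at h2
    have h2 : MulAut.conj ((z : G)⁻¹) • σ ≤ sSup (Sg \ R e) := le_sSup h1
    have h3 : MulAut.conj (z : G) • MulAut.conj ((z : G)⁻¹) • σ ≤ MulAut.conj (z : G) • sSup (Sg \ R e) :=
      Subgroup.pointwise_smul_le_pointwise_smul_iff.2 h2
    rwa [hcc] at h3
  have hconj3 : ∀ z : Y, MulAut.conj (z : G) • (sSup (Sg \ R e) : Subgroup G) ≤ sSup (Sg \ R z) := by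
    intro z
    rw [Subgroup.pointwise_smul_subset_iff, ← map_inv]
    refine sSup_le fun σ hσ => ?_
    have h1 : MulAut.conj (z : G) • σ ∈ Sg \ R z := by
      refine ⟨hYS _ z.2 σ hσ.1, fun hc => hσ.2 ?_⟩
      have h2 := hYR z⁻¹ z _ hc
      rw [inv_mul_cancel] at h2
      have h3 : MulAut.conj ((z⁻¹ : Y) : G) • MulAut.conj (z : G) • σ = σ := hcc' z σ
      rwa [h3] at h2
    have h2 : MulAut.conj (z : G) • σ ≤ sSup (Sg \ R z) := le_sSup h1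
    have h3 : MulAut.conj ((z : G)⁻¹) • MulAut.conj (z : G) • σ ≤ MulAut.conj ((z : G)⁻¹) • sSup (Sg \ R z) :=
      Subgroup.pointwise_smul_le_pointwise_smul_iff.2 h2
    rwa [hcc'] at h3
  have hd : ∀ i, (sSup (R i) : Subgroup G) ⊓ sSup (Sg \ R i) = ⊥ := by
    intro i
    rw [eq_bot_iff]
    intro x hx
    obtain ⟨hx1, hx2⟩ := mem_inf.1 hx
    have h1 := mem_cj.1 (hconj1 i hx1)
    have h2 := mem_cj.1 (hconj2 i hx2)
    have h3 : (i : G)⁻¹ * x * i ∈ (sSup (R e) : Subgroup G) ⊓ sSup (Sg \ R e) := mem_inf.2 ⟨h1, h2⟩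
    rw [hd1, mem_bot] at h3
    rw [mem_bot]
    calc x = i * ((i : G)⁻¹ * x * i) * (i : G)⁻¹ := by group
      _ = 1 := by rw [h3]; group
  -- `M = 1`
  have hM : (sSup (Sg \ R e) : Subgroup G) = ⊥ := by
    by_contra hne
    obtain ⟨s, hs, hs1, hsB⟩ := exists_fix hB (fun x hx => h.sq x (hMU hx)) hne (by
      intro b hb x hx
      have h1 : MulAut.conj b • (sSup (Sg \ R e) : Subgroup G) ≤ sSup (Sg \ R e) := by
        rw [Subgroup.pointwise_smul_subset_iff, ← map_inv]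
        refine sSup_le fun σ hσ => ?_
        have h2 : MulAut.conj b • σ ∈ Sg \ R e := by
          refine ⟨hYS b (h.BY hb) σ hσ.1, fun hc => hσ.2 ?_⟩
          obtain ⟨A, h3, h4, h5, h6⟩ := (hRe _).1 hc
          rw [hRe]
          obtain ⟨h7, h8, h9⟩ := h.act_B h3 h4 h5 (inv_mem hb)
          refine ⟨_, h7, h8, h9, ?_⟩
          rw [← h.rho_conj h3 h4 h5 (inv_mem (h.BY hb)) h9, ← h6, cj_cj, inv_mul_cancel, cj_one]
        have h3 : MulAut.conj b • σ ≤ sSup (Sg \ R e) := le_sSup h2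
        have h4 : MulAut.conj (b⁻¹) • MulAut.conj b • σ ≤ MulAut.conj (b⁻¹) • sSup (Sg \ R e) :=
          Subgroup.pointwise_smul_le_pointwise_smul_iff.2 h3
        rwa [cj_cj, inv_mul_cancel, cj_one] at h4
      exact h1 (cj_mem hx))
    obtain ⟨v, hv, r, hr, hvr⟩ := hfix s (hMU hs) hsB
    have hv1 : v = 1 := by
      refine hCV v hv fun n hn => ?_
      have h1 : n * s = s * n := (mem_centralizer_iff.1 (hMC hs)) n hn
      have h2 := hRL r hr n (hKL hn)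
      have h3 : v = s * r⁻¹ := by rw [hvr]; group
      have h4 : n * r⁻¹ = r⁻¹ * n := by
        calc n * r⁻¹ = r⁻¹ * (r * n) * r⁻¹ := by group
          _ = r⁻¹ * (n * r) * r⁻¹ := by rw [h2]
          _ = r⁻¹ * n := by group
      rw [h3]
      calc n * (s * r⁻¹) = (n * s) * r⁻¹ := by group
        _ = s * (n * r⁻¹) := by rw [h1]; group
        _ = s * r⁻¹ * n := by rw [h4]; group
    rw [hv1, one_mul] at hvr
    apply hs1
    refine eq_one_of_mem h.cm hSU R hRS hcov hd (s := s) (fun z => hconj3 z ?_) ?_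
    · rw [mem_cj]
      have h1 := hRY r hr (z : G)⁻¹ (inv_mem z.2)
      have h2 : (z : G)⁻¹ * s * z = s := by
        rw [hvr, h1]; group
      rw [h2]
      exact hs
    · exact (sSup_le_sSup Set.sdiff_subset : (sSup (Sg \ R e) : Subgroup G) ≤ sSup Sg) hs
  -- conclusion
  have h1 : MulAut.conj y • ρ A ∈ Sg := ⟨y, hy, A, hA, hAB, hm, rfl⟩
  by_cases h2 : MulAut.conj y • ρ A ∈ R e
  · exact (hRe _).1 h2
  · exfalso
    have h3 : MulAut.conj y • ρ A ≤ sSup (Sg \ R e) := le_sSup ⟨h1, h2⟩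
    rw [hM, le_bot_iff] at h3
    apply h.rho_ne hA hAB hm
    have h4 : MulAut.conj y⁻¹ • MulAut.conj y • ρ A = MulAut.conj y⁻¹ • (⊥ : Subgroup G) := by rw [h3]
    rwa [cj_cj, inv_mul_cancel, cj_one, Subgroup.smul_bot] at h4

/-- **COROLLARY of LEMMA RL**, one root group: `Y` normalises it. -/
theorem Sit.cor_one [Finite G] (h : Sit U V₀ B LL Y AA ρ) (hB : IsPGroup 2 B) {K R' r : Subgroup G}
    (hr : ∀ A ∈ AA, A ≤ B → Mv A V₀ → ρ A = r)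
    (htr : ∀ A ∈ AA, A ≤ B → Mv A V₀ → ∀ l ∈ LL, ∃ g ∈ NN LL A, MulAut.conj g • MulAut.conj l • r = r)
    (hK : ∀ A ∈ AA, A ≤ B → Mv A V₀ → K ≤ NN LL A)
    (hCV : ∀ v ∈ V₀, (∀ n ∈ K, n * v = v * n) → v = 1)
    (hfix : ∀ x ∈ U, (∀ b ∈ B, b * x = x * b) → ∃ v ∈ V₀, ∃ r ∈ R', x = v * r)
    (hRL : ∀ r ∈ R', ∀ l ∈ LL, l * r = r * l) (hRY : ∀ r ∈ R', ∀ y ∈ Y, y * r = r * y)
    (hex : ∃ A ∈ AA, A ≤ B ∧ Mv A V₀) {y : G} (hy : y ∈ Y) : MulAut.conj y • r = r := by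
  obtain ⟨A, hA, hAB, hm⟩ := hex
  obtain ⟨A', h1, h2, h3, h4⟩ := h.cor hB (by
    intro A hA hAB hm
    rw [hr A hA hAB hm]
    exact htr A hA hAB hm) hK hCV hfix hRL hRY hA hAB hm hy
  rwa [hr A hA hAB hm, hr A' h1 h2 h3] at h4

end Cfsg.Agent.Omega.OM.RL
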